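import Cfsg.Agent.Breadth.Step
import Mathlib.GroupTheory.Abelianization.Defs
import Mathlib.GroupTheory.Nilpotent

/-!
# The order of the derived group is bounded by the breadth

If every class of a finite `p`-group has at most `p ^ b` elements then the derived group has
order at most `p ^ (b (b + 1) / 2)`.
-/

set_option autoImplicit false
set_option linter.unusedSectionVars false

open scoped commutatorElement

namespace CfsgLib.Breadth

variable {G : Type*} [Group G] [Finite G] {p : ℕ} [hp : Fact p.Prime]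

theorem two_mul_add_one_le_pow {k : ℕ} (hk : 3 ≤ k) : 2 * k + 1 ≤ p ^ k := by
  refine le_trans ?_ (Nat.pow_le_pow_left hp.out.two_le k)
  induction k, hk using Nat.le_induction with
  | base => decide
  | succ k hk ih => rw [pow_succ]; omega

namespace Pivot

variable (P : Pivot p G) [Fintype G]

open Classical in
theorem C_central_of_closure
    (hT : Subgroup.closure {x | x ∉ P.C ∧ P.f x ≤ P.k + 1} = ⊤) {x : G} (hx : x ∈ P.C) (g : G) :
    ⁅x, g⁆ ∈ P.N := by
  have hle : Subgroup.closure {y | y ∉ P.C ∧ P.f y ≤ P.k + 1} ≤ bracketPre x P.N P.N_le_center := by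
    rw [Subgroup.closure_le]
    intro y hy
    obtain ⟨-, h2⟩ := P.line hy.1 hy.2
    show ⁅x, y⁆ ∈ P.N
    rw [← commutatorElement_inv]
    exact P.N.inv_mem ((Subgroup.zpowers_le.mpr (P.bracket_a_mem y)) (h2 x hx))
  rw [hT] at hle
  exact hle (Subgroup.mem_top g)

open Classical in
/-- The exceptional configuration gives many elements of large index data. -/
theorem exception (hT : Subgroup.closure {x | x ∉ P.C ∧ P.f x ≤ P.k + 1} = ⊤) (hk : P.k = 3)
    {x : G} (hxC : x ∈ P.C) (hx : br p x = 1) : 3 * Nat.card P.C ≤ P.Q.card := by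
  have hN := P.C_central_of_closure hT hxC
  set ψ := comHom x fun g => P.N_le_center (hN g)
  set R := ψ.range with hR
  have hRc : Nat.card R = p := by rw [hR, card_range_comHom P.hG, hx, pow_one]
  have hRN : R ≤ P.N := by rintro _ ⟨g, rfl⟩; exact hN g
  set n := Nat.card P.C
  set L := R.comap (comHom P.a P.central) with hL
  set D := Subgroup.centralizer ({x} : Set G) with hD
  have hG : Nat.card G = p ^ 3 * n := by rw [P.card_G, hk]
  have hDc : Nat.card D = p ^ 2 * n := by
    have h := Subgroup.card_mul_index D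
    rw [index_eq P.hG, show lg p D = 1 from hx, pow_one, hG] at h
    exact Nat.eq_of_mul_eq_mul_right hp.out.pos (h.trans (by ring))
  have hLi : L.index * p = p ^ 3 := by
    rw [hL, Subgroup.index_comap]
    have hle : R ≤ (comHom P.a P.central).range := hRN
    have h := Subgroup.card_mul_index (R.subgroupOf (comHom P.a P.central).range)
    rw [Nat.card_congr (Subgroup.subgroupOfEquivOfLe hle).toEquiv] at h
    calc R.relIndex (comHom P.a P.central).range * p
        = Nat.card R * R.relIndex (comHom P.a P.central).range := by rw [hRc]; ring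
      _ = Nat.card (comHom P.a P.central).range := h
      _ = _ := by rw [← hk, ← P.card_N]; rfl
  have hLc : Nat.card L = p * n := by
    have h := Subgroup.card_mul_index L
    have hi : L.index = p ^ 2 := Nat.eq_of_mul_eq_mul_right hp.out.pos (hLi.trans (by ring))
    rw [hi, hG] at h
    exact Nat.eq_of_mul_eq_mul_right (pow_pos hp.out.pos 2) (h.trans (by ring))
  have hDL : n ≤ Nat.card (D ⊓ L : Subgroup G) := by
    have h1 := lg_inf_le P.hG (le_top : D ≤ ⊤) (le_top : L ≤ ⊤)
    have hl : lg p L = 2 := by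
      have : L.index = p ^ 2 := Nat.eq_of_mul_eq_mul_right hp.out.pos (hLi.trans (by ring))
      rw [lg, this, Nat.factorization_pow, Finsupp.smul_apply, hp.out.factorization_self,
        smul_eq_mul, mul_one]
    rw [lg_top, hl, show lg p D = 1 from hx, add_zero] at h1
    have h2 := Subgroup.card_mul_index (D ⊓ L)
    rw [index_eq P.hG, hG] at h2
    refine Nat.le_of_mul_le_mul_left ?_ (pow_pos hp.out.pos 3)
    rw [← h2, mul_comm (Nat.card _)]
    exact Nat.mul_le_mul_right _ (Nat.pow_le_pow_right hp.out.pos h1)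
  have hsub : (Finset.univ.filter (fun y => y ∉ D ∧ y ∉ L)).card ≤ P.Q.card := by
    refine Finset.card_le_card fun y hy => ?_
    rw [Finset.mem_filter] at hy
    obtain ⟨-, hyD, hyL⟩ := hy
    have hyC : y ∉ P.C := fun h => hyL (by
      rw [hL, Subgroup.mem_comap, comHom_apply, mem_centralizer_iff_bracket.mp h]
      exact R.one_mem)
    refine P.mem_Q_of hyC fun hfy => hyL ?_
    obtain ⟨hc, hline⟩ := P.line hyC hfy
    have hne : ⁅x, y⁆ ≠ 1 := fun h => hyD (mem_centralizer_iff_bracket.mpr h)
    have hmem : ⁅x, y⁆ ∈ Subgroup.zpowers ⁅y, P.a⁆ := by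
      have h' := inv_mem (hline x hxC)
      rwa [commutatorElement_inv] at h'
    have heq : R = Subgroup.zpowers ⁅y, P.a⁆ :=
      eq_of_card_prime hRc hc ⟨y, rfl⟩ hmem hne
    rw [hL, Subgroup.mem_comap, comHom_apply, ← commutatorElement_inv, heq]
    exact inv_mem (Subgroup.mem_zpowers _)
  have hout := card_outside D L
  rw [hDc, hLc, hG] at hout
  obtain ⟨r, hr⟩ : ∃ r, p = r + 2 := ⟨p - 2, by have := hp.out.two_le; omega⟩
  rw [hr] at hout
  have h3 : 3 * n ≤ (r + 1) ^ 2 * (r + 3) * n := Nat.mul_le_mul_right n (by nlinarith)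
  linarith

open Classical in
theorem step : 2 * P.total' + 6 * P.k * Nat.card G ≤ 2 * total (G := G) (p := p) := by
  set n := Nat.card P.C
  have hk := P.one_le
  rw [P.card_G]
  set q := p ^ P.k with hq
  have hd := inc_mono (Nat.le_succ P.k)
  obtain ⟨q', hq'⟩ : ∃ q', q = q' + 1 := ⟨q - 1, by have := pow_pos hp.out.pos P.k; omega⟩
  obtain ⟨d, hd'⟩ : ∃ d, inc (P.k + 1) = inc P.k + d := ⟨inc (P.k + 1) - inc P.k, by
    simp only [Nat.succ_eq_add_one] at hd; omega⟩
  have hp2 := hp.out.two_le
  by_cases hT : Subgroup.closure {x | x ∉ P.C ∧ P.f x ≤ P.k + 1} = ⊤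
  · have hmk : ∀ x ∈ P.C, br p (x : G ⧸ P.N) = 0 := fun x hx => by
      refine br_eq_zero (Subgroup.mem_center_iff.mpr fun g => ?_)
      obtain ⟨g, rfl⟩ := QuotientGroup.mk_surjective g
      have h : ⁅(x : G ⧸ P.N), (g : G ⧸ P.N)⁆ = 1 :=
        (QuotientGroup.eq_one_iff (N := P.N) _).mpr (P.C_central_of_closure hT hx g)
      exact (commutatorElement_eq_one_iff_mul_comm.mp h).symm
    have hsum : ∀ x, P.k ≤ br p x + br p (x * P.a) := fun x => by
      have h := lg_inf_le P.hG
        (le_top : Subgroup.centralizer ({x * P.a} : Set G) ≤ ⊤)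
        (le_top : Subgroup.centralizer ({x} : Set G) ≤ ⊤)
      rw [P.cent_mul_inf, lg_top] at h
      have h2 : lg p P.C = P.k := P.lg_eq
      have h3 := lg_anti P.hG (inf_le_left : P.C ⊓ Subgroup.centralizer ({x} : Set G) ≤ P.C)
      rw [br, br]; omega
    have hw : ∀ {c₀ : ℕ}, (∀ x ∈ P.C, c₀ ≤ wt (br p x) + wt (br p (x * P.a))) → ∀ x ∈ P.C,
        wt (br p (x : G ⧸ P.N)) + wt (br p ((x * P.a : G) : G ⧸ P.N)) + c₀ ≤
          wt (br p x) + wt (br p (x * P.a)) := fun h x hx => by
      rw [hmk x hx, hmk _ (P.mem_C_mul.mpr hx)]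
      show 0 + 0 + _ ≤ _
      rw [add_zero, zero_add]
      exact h x hx
    rcases Nat.lt_or_ge P.k 3 with hk3 | hk3
    · rcases (show P.k = 1 ∨ P.k = 2 by omega) with h1 | h1
      · have := P.total_le (hw fun x _ => (pair_small (hsum x)).1 hk)
        rw [← hq, hq', Nat.add_sub_cancel, h1, show inc 1 = 5 from rfl] at this
        rw [hq', h1]
        have : 1 ≤ q' := by rw [h1, pow_one] at hq; omega
        nlinarith
      · have := P.total_le (hw fun x _ => (pair_small (hsum x)).2.1 h1)
        rw [← hq, hq', Nat.add_sub_cancel, h1, show inc 2 = 7 from rfl] at this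
        rw [hq', h1]
        have : 3 ≤ q' := by rw [h1] at hq; nlinarith
        nlinarith
    · have hinc := inc_of_three_le hk3
      by_cases hex : P.k = 3 ∧ ∃ x ∈ P.C, br p x = 1
      · obtain ⟨h3, x, hxC, hx⟩ := hex
        have hQ := P.exception hT h3 hxC hx
        have := P.total_le (hw (c₀ := 0) fun x _ => Nat.zero_le _)
        rw [← hq, hq', Nat.add_sub_cancel, h3, show inc 3 = 9 from rfl,
          show inc (3 + 1) - 9 = 3 from rfl] at this
        rw [hq', h3]
        nlinarith
      · have := P.total_le (hw fun x hx => (pair_small (hsum x)).2.2 hk3 fun h3 =>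
          ⟨fun h => hex ⟨h3, x, hx, h⟩, fun h => hex ⟨h3, _, P.mem_C_mul.mpr hx, h⟩⟩)
        rw [← hq, hq', Nat.add_sub_cancel, hinc] at this
        rw [hq']
        nlinarith
  · have hC : ∀ x ∈ P.C, wt (br p (x : G ⧸ P.N)) + wt (br p ((x * P.a : G) : G ⧸ P.N)) + 0 ≤
        wt (br p x) + wt (br p (x * P.a)) := fun x _ => by
      rw [add_zero]; exact Nat.add_le_add (wt_mono (P.br_mk_le x)) (wt_mono (P.br_mk_le _))
    obtain ⟨H, hH, hTH⟩ : ∃ H : Subgroup G, H.index = p ∧
        Subgroup.closure {x | x ∉ P.C ∧ P.f x ≤ P.k + 1} ≤ H := by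
      set S := Subgroup.closure {x | x ∉ P.C ∧ P.f x ≤ P.k + 1}
      obtain ⟨N, hN⟩ := IsPGroup.iff_card.mp P.hG
      obtain ⟨s, hs, hcard⟩ := (Nat.dvd_prime_pow hp.out).mp (hN ▸ Subgroup.card_subgroup_dvd_card S)
      have hs' : s + 1 ≤ N := by
        by_contra hlt
        refine hT (Subgroup.eq_top_of_card_eq S ?_)
        rw [hcard, hN, show s = N by omega]
      obtain ⟨H, hH, hle⟩ := Sylow.exists_subgroup_card_pow_prime_le p (m := N - 1)
        (hN.symm ▸ pow_dvd_pow p (by omega : N - 1 ≤ N)) S hcard (by omega)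
      refine ⟨H, ?_, hle⟩
      have h := Subgroup.card_mul_index H
      rw [hH, hN, show p ^ N = p ^ (N - 1) * p by rw [← pow_succ]; congr 1; omega] at h
      exact Nat.eq_of_mul_eq_mul_left (pow_pos hp.out.pos _) h
    have hQ := P.card_index_two hH fun x hx hf => hTH (Subgroup.subset_closure ⟨hx, hf⟩)
    have := P.total_le hC
    rw [← hq, hq', Nat.add_sub_cancel, hd', Nat.add_sub_cancel_left, mul_zero, add_zero] at this
    rw [← hq, hq', Nat.add_sub_cancel] at hQ
    rw [hq']
    rcases Nat.lt_or_ge P.k 3 with hk3 | hk3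
    · rcases (show P.k = 1 ∨ P.k = 2 by omega) with h1 | h1
      · rw [h1, show inc 1 = 5 from rfl] at this hd'
        rw [h1]
        have : d = 2 := by rw [show inc (1 + 1) = 7 from rfl] at hd'; omega
        have : 1 ≤ q' := by rw [h1, pow_one] at hq; omega
        subst d
        nlinarith
      · rw [h1, show inc 2 = 7 from rfl] at this hd'
        rw [h1]
        have : d = 2 := by rw [show inc (2 + 1) = 9 from rfl] at hd'; omega
        have : 3 ≤ q' := by rw [h1] at hq; nlinarith
        subst d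
        nlinarith
    · rw [inc_of_three_le hk3] at this hd'
      rw [inc_of_three_le (by omega)] at hd'
      have : d = 3 := by omega
      have : 2 * P.k + 1 ≤ q' + 1 := by rw [← hq', hq]; exact two_mul_add_one_le_pow hk3
      subst d
      nlinarith

end Pivot

theorem card_commutator_le_mul {G : Type*} [Group G] [Finite G] (N : Subgroup G) [N.Normal] :
    Nat.card (commutator G) ≤ Nat.card N * Nat.card (commutator (G ⧸ N)) := by
  have hmap : (commutator G).map (QuotientGroup.mk' N) = commutator (G ⧸ N) := by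
    rw [commutator_def, commutator_def, Subgroup.map_commutator,
      Subgroup.map_top_of_surjective _ (QuotientGroup.mk'_surjective N)]
  rw [← hmap]
  set ψ := (QuotientGroup.mk' N).domRestrict (commutator G) with hψ
  rw [← MonoidHom.domRestrict_range, ← hψ, ← Subgroup.index_ker ψ, ← Subgroup.card_mul_index ψ.ker]
  refine Nat.mul_le_mul_right _ (Nat.card_le_card_of_injective
    (fun g : ψ.ker => (⟨((g : commutator G) : G), ?_⟩ : N)) fun u v h => ?_)
  · exact (QuotientGroup.eq_one_iff _).mp g.2
  · exact Subtype.ext (Subtype.ext (congrArg (fun t : N => (t : G)) h))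

theorem exists_pivot_aux {G : Type*} [Group G] [Finite G] {p : ℕ} [hp : Fact p.Prime]
    (hG : IsPGroup p G) (hab : Subgroup.center G ≠ ⊤) :
    ∃ a : G, a ∉ Subgroup.center G ∧ ∀ g : G, ⁅a, g⁆ ∈ Subgroup.center G := by
  have : Nontrivial (G ⧸ Subgroup.center G) := QuotientGroup.nontrivial_iff.mpr hab
  have := (hG.to_quotient (Subgroup.center G)).center_nontrivial
  obtain ⟨⟨c, hc⟩, hc1⟩ := exists_ne (1 : Subgroup.center (G ⧸ Subgroup.center G))
  obtain ⟨a, rfl⟩ := QuotientGroup.mk_surjective c
  refine ⟨a, fun h => hc1 (Subtype.ext ((QuotientGroup.eq_one_iff _).mpr h)), fun g => ?_⟩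
  rw [← QuotientGroup.eq_one_iff]
  show ⁅(a : G ⧸ Subgroup.center G), (g : G ⧸ Subgroup.center G)⁆ = 1
  rw [commutatorElement_eq_one_iff_mul_comm]
  exact (Subgroup.mem_center_iff.mp hc g).symm

open Classical in
theorem sum_quotient {G : Type*} [Group G] [Fintype G] (N : Subgroup G) [N.Normal]
    [Fintype (G ⧸ N)] (v : G ⧸ N → ℕ) : ∑ x : G, v x = Nat.card N * ∑ z, v z := by
  rw [← Finset.sum_fiberwise Finset.univ (fun x : G => (x : G ⧸ N)), Finset.mul_sum]
  refine Finset.sum_congr rfl fun z _ => ?_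
  rw [Finset.sum_congr rfl (fun x hx => congrArg v (Finset.mem_filter.mp hx).2), Finset.sum_const,
    smul_eq_mul]
  congr 1
  obtain ⟨a, rfl⟩ := QuotientGroup.mk_surjective z
  rw [Nat.card_eq_fintype_card, ← Finset.card_univ]
  refine Finset.card_bij' (fun x hx => (⟨a⁻¹ * x, QuotientGroup.eq.mp
    (Finset.mem_filter.mp hx).2.symm⟩ : N)) (fun c _ => a * c) ?_ ?_ ?_ ?_
  · intros; exact Finset.mem_univ _
  · intro c _
    rw [Finset.mem_filter]
    refine ⟨Finset.mem_univ _, (QuotientGroup.eq.mpr ?_).symm⟩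
    simp
  · intros; simp
  · intros; ext; simp

/-- The counting bound: with `|G'| = p ^ m` one has `3 m |G| ≤ Σ wt (br x)`. -/
theorem exists_card_commutator (p : ℕ) [hp : Fact p.Prime] : ∀ (t : ℕ) (G : Type*) [Group G]
    [Fintype G], Nat.card G ≤ t → IsPGroup p G →
      ∃ m, Nat.card (commutator G) ≤ p ^ m ∧ 3 * m * Nat.card G ≤ Pivot.total (G := G) (p := p) := by
  intro t
  induction t with
  | zero => intro G _ _ h _; exact absurd h (Nat.not_le.mpr Nat.card_pos)
  | succ t ih =>
    intro G _ _ hcard hG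
    classical
    by_cases hab : Subgroup.center G = ⊤
    · refine ⟨0, ?_, by simp⟩
      have hbot : commutator G = ⊥ := by
        rw [commutator_def, Subgroup.commutator_eq_bot_iff_le_centralizer]
        intro g _ h _
        exact (Subgroup.mem_center_iff.mp (hab ▸ Subgroup.mem_top g) h)
      simp [hbot]
    · obtain ⟨a, ha, hcen⟩ := exists_pivot_aux hG hab
      have hk : 1 ≤ br p a := by
        rw [Nat.one_le_iff_ne_zero]
        intro h0
        apply ha
        have hi : (Subgroup.centralizer ({a} : Set G)).index = 1 := by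
          rw [index_eq hG]; rw [br] at h0; rw [h0, pow_zero]
        rw [Subgroup.index_eq_one] at hi
        rw [Subgroup.mem_center_iff]
        intro g
        exact Subgroup.mem_centralizer_singleton_iff.mp (hi ▸ Subgroup.mem_top g)
      let P : Pivot p G := ⟨a, br p a, hG, hcen, rfl, hk⟩
      let _ : Fintype (G ⧸ P.N) := Fintype.ofFinite _
      have hlt : Nat.card (G ⧸ P.N) * p ^ P.k = Nat.card G := by
        rw [← P.card_N, ← Subgroup.card_eq_card_quotient_mul_card_subgroup]
      have hle : Nat.card (G ⧸ P.N) ≤ t := by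
        have h2 : 2 ≤ p ^ P.k := le_trans hp.out.two_le (Nat.le_self_pow (by show br p a ≠ 0; omega) p)
        have : 0 < Nat.card (G ⧸ P.N) := Nat.card_pos
        nlinarith
      obtain ⟨m, hm, hsum⟩ := ih (G ⧸ P.N) hle (hG.to_quotient _)
      refine ⟨P.k + m, ?_, ?_⟩
      · calc Nat.card (commutator G)
            ≤ Nat.card P.N * Nat.card (commutator (G ⧸ P.N)) := card_commutator_le_mul _
          _ ≤ p ^ P.k * p ^ m := by rw [P.card_N]; exact Nat.mul_le_mul_left _ hm
          _ = p ^ (P.k + m) := (pow_add p _ _).symm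
      · have h1 := P.step
        have h2 : P.total' = p ^ P.k * Pivot.total (G := G ⧸ P.N) (p := p) := by
          rw [← P.card_N]
          exact sum_quotient P.N fun z => wt (br p z)
        have h3 : p ^ P.k * (3 * m * Nat.card (G ⧸ P.N)) ≤ P.total' := by
          rw [h2]; exact Nat.mul_le_mul_left _ hsum
        rw [← hlt] at h1 ⊢
        nlinarith

/-- The bound on the derived group. -/
theorem card_commutator_le {G : Type*} [Group G] [Finite G] {p : ℕ} [hp : Fact p.Prime]
    (hG : IsPGroup p G) (b : ℕ)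
    (hb : ∀ x : G, (Subgroup.centralizer ({x} : Set G)).index ≤ p ^ b) :
    Nat.card (commutator G) ≤ p ^ (b * (b + 1) / 2) := by
  classical
  let _ : Fintype G := Fintype.ofFinite G
  obtain ⟨m, hm, hsum⟩ := exists_card_commutator p (Nat.card G) G le_rfl hG
  refine hm.trans (Nat.pow_le_pow_right hp.out.pos ?_)
  have h0 : br p (1 : G) = 0 := br_eq_zero (one_mem _)
  have h1 : Pivot.total (G := G) (p := p) + wt b ≤ Nat.card G * wt b := by
    rw [Pivot.total, ← Finset.add_sum_erase _ _ (Finset.mem_univ (1 : G)), h0,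
      Nat.card_eq_fintype_card]
    have := Finset.sum_le_card_nsmul (Finset.univ.erase (1 : G)) (fun x => wt (br p x)) (wt b)
      fun x _ => wt_mono (br_le hG (hb x))
    rw [Finset.card_erase_of_mem (Finset.mem_univ _), Finset.card_univ, smul_eq_mul] at this
    obtain ⟨c, hc⟩ : ∃ c, Fintype.card G = c + 1 :=
      ⟨Fintype.card G - 1, by have := Fintype.card_pos (α := G); omega⟩
    rw [hc, Nat.add_sub_cancel] at this
    rw [hc, add_mul, one_mul]
    show wt 0 + _ + _ ≤ _
    rw [show wt 0 = 0 from rfl]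
    omega
  have h2 := two_wt_le b
  rw [Nat.le_div_iff_mul_le two_pos]
  rcases Nat.eq_zero_or_pos b with hb0 | hb0
  · subst hb0
    have : wt 0 = 0 := rfl
    have : 0 < Nat.card G := Nat.card_pos
    nlinarith
  · have hw : 0 < wt b := by
      have := wt_mono (show 1 ≤ b from hb0)
      have : wt 1 = 5 := rfl
      omega
    have h3 : 3 * m < wt b := by
      by_contra hlt
      have := Nat.mul_le_mul_right (Nat.card G) (Nat.not_lt.mp hlt)
      nlinarith
    obtain ⟨u, hu⟩ : 2 ∣ b * (b + 1) := (Nat.even_mul_succ_self b).two_dvd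
    have hu' : 3 * b * (b + 1) = 3 * (2 * u) := by rw [mul_assoc, hu]
    omega

end CfsgLib.Breadth
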