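import Mathlib.GroupTheory.PGroup
import Mathlib.GroupTheory.Index
import Mathlib.GroupTheory.Commutator.Basic
import Mathlib.GroupTheory.Sylow

/-!
# Centralizer indices in finite `p`-groups, and commutation with an element of the second centre
-/

set_option autoImplicit false

open scoped commutatorElement

namespace CfsgLib.Breadth

variable {G : Type*} [Group G]

/-- Commutation with a fixed element, all of whose commutators are central. -/
def comHom (x : G) (h : ∀ g : G, ⁅x, g⁆ ∈ Subgroup.center G) : G →* G where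
  toFun g := ⁅x, g⁆
  map_one' := by simp [commutatorElement_def]
  map_mul' g g' := by
    have hc := Subgroup.mem_center_iff.mp (h g') g
    calc ⁅x, g * g'⁆ = ⁅x, g⁆ * (g * ⁅x, g'⁆) * g⁻¹ := by
            simp only [commutatorElement_def]; group
      _ = ⁅x, g⁆ * ⁅x, g'⁆ := by rw [hc]; group

@[simp] theorem comHom_apply (x : G) (h : ∀ g : G, ⁅x, g⁆ ∈ Subgroup.center G) (g : G) :
    comHom x h g = ⁅x, g⁆ := rfl

theorem mem_centralizer_iff_bracket {x g : G} :
    g ∈ Subgroup.centralizer ({x} : Set G) ↔ ⁅x, g⁆ = 1 := by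
  rw [Subgroup.mem_centralizer_singleton_iff, commutatorElement_eq_one_iff_mul_comm]
  exact eq_comm

theorem ker_comHom (x : G) (h : ∀ g : G, ⁅x, g⁆ ∈ Subgroup.center G) :
    (comHom x h).ker = Subgroup.centralizer ({x} : Set G) := by
  ext g
  rw [MonoidHom.mem_ker, mem_centralizer_iff_bracket, comHom_apply]

/-- The elements whose bracket with `y` lies in a central subgroup. -/
def bracketPre (y : G) (R : Subgroup G) (hR : R ≤ Subgroup.center G) : Subgroup G where
  carrier := {g | ⁅y, g⁆ ∈ R}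
  one_mem' := by simp [commutatorElement_def, R.one_mem]
  mul_mem' {g g'} hg hg' := by
    have hc := Subgroup.mem_center_iff.mp (hR hg') g
    have he : ⁅y, g * g'⁆ = ⁅y, g⁆ * ⁅y, g'⁆ := by
      calc ⁅y, g * g'⁆ = ⁅y, g⁆ * (g * ⁅y, g'⁆) * g⁻¹ := by
              simp only [commutatorElement_def]; group
        _ = ⁅y, g⁆ * ⁅y, g'⁆ := by rw [hc]; group
    show ⁅y, g * g'⁆ ∈ R
    rw [he]; exact R.mul_mem hg hg'
  inv_mem' {g} hg := by
    have hc := Subgroup.mem_center_iff.mp (hR (R.inv_mem hg)) g⁻¹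
    have he : ⁅y, g⁻¹⁆ = ⁅y, g⁆⁻¹ := by
      calc ⁅y, g⁻¹⁆ = g⁻¹ * ⁅y, g⁆⁻¹ * g := by simp only [commutatorElement_def]; group
        _ = ⁅y, g⁆⁻¹ := by rw [hc]; group
    show ⁅y, g⁻¹⁆ ∈ R
    rw [he]; exact R.inv_mem hg

theorem mem_bracketPre {y : G} {R : Subgroup G} {hR : R ≤ Subgroup.center G} {g : G} :
    g ∈ bracketPre y R hR ↔ ⁅y, g⁆ ∈ R := Iff.rfl

variable [Finite G]

/-- The exponent of `p` in the index of a subgroup. -/
noncomputable def lg (p : ℕ) (H : Subgroup G) : ℕ := H.index.factorization p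

/-- The breadth of an element. -/
noncomputable def br (p : ℕ) (x : G) : ℕ := lg p (Subgroup.centralizer ({x} : Set G))

variable {p : ℕ} [hp : Fact p.Prime]

theorem index_eq (hG : IsPGroup p G) (H : Subgroup G) : H.index = p ^ lg p H := by
  obtain ⟨n, hn⟩ := hG.index H
  rw [lg, hn, Nat.factorization_pow, Finsupp.smul_apply, hp.out.factorization_self, smul_eq_mul,
    mul_one]

omit [Finite G] hp in
theorem lg_top : lg p (⊤ : Subgroup G) = 0 := by simp [lg]

theorem lg_anti (hG : IsPGroup p G) {H K : Subgroup G} (h : H ≤ K) : lg p K ≤ lg p H := by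
  have := Subgroup.index_dvd_of_le h
  rw [index_eq hG H, index_eq hG K] at this
  exact Nat.pow_dvd_pow_iff_le_right hp.out.one_lt |>.mp this

theorem lg_lt (hG : IsPGroup p G) {H K : Subgroup G} (h : H < K) : lg p K < lg p H := by
  refine lt_of_le_of_ne (lg_anti hG h.le) fun he => h.ne ?_
  have h1 := Subgroup.card_mul_index H
  have h2 := Subgroup.card_mul_index K
  rw [index_eq hG, ← he] at h1
  rw [index_eq hG] at h2
  exact Subgroup.eq_of_le_of_card_ge h.le
    (Nat.eq_of_mul_eq_mul_right (pow_pos hp.out.pos _) (h1.trans h2.symm)).ge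

theorem lg_inf_le (hG : IsPGroup p G) {H K E : Subgroup G} (hH : H ≤ E) (hK : K ≤ E) :
    lg p (H ⊓ K) + lg p E ≤ lg p H + lg p K := by
  have h1 : (H ⊓ K).index = K.relIndex H * H.index := by
    rw [← Subgroup.relIndex_mul_index (inf_le_left : H ⊓ K ≤ H), Subgroup.inf_relIndex_left]
  have h2 : K.relIndex E * E.index = K.index := Subgroup.relIndex_mul_index hK
  have h3 : K.relIndex H ≤ K.relIndex E := by
    refine Subgroup.relIndex_le_of_le_right hH ?_
    exact Subgroup.index_ne_zero_of_finite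
  have h4 : (H ⊓ K).index * E.index ≤ H.index * K.index := by
    rw [h1, ← h2]
    calc _ ≤ K.relIndex E * H.index * E.index := by gcongr
      _ = _ := by ring
  rw [index_eq hG, index_eq hG, index_eq hG, index_eq hG, ← pow_add, ← pow_add] at h4
  exact (Nat.pow_le_pow_iff_right hp.out.one_lt).mp h4

omit [Finite G] hp in
theorem br_eq_zero {x : G} (hx : x ∈ Subgroup.center G) : br p x = 0 := by
  have : Subgroup.centralizer ({x} : Set G) = ⊤ :=
    eq_top_iff.mpr fun g _ => Subgroup.mem_centralizer_singleton_iff.mpr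
      (Subgroup.mem_center_iff.mp hx g)
  rw [br, this, lg_top]

theorem br_le (hG : IsPGroup p G) {b : ℕ} {x : G}
    (h : (Subgroup.centralizer ({x} : Set G)).index ≤ p ^ b) : br p x ≤ b := by
  rw [index_eq hG] at h
  exact (Nat.pow_le_pow_iff_right hp.out.one_lt).mp h

theorem card_range_comHom (hG : IsPGroup p G) (x : G)
    (h : ∀ g : G, ⁅x, g⁆ ∈ Subgroup.center G) :
    Nat.card (comHom x h).range = p ^ br p x := by
  rw [← Subgroup.index_ker, ker_comHom, index_eq hG, br]

end CfsgLib.Breadth
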