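import Cfsg.Agent.Breadth.Step
import Mathlib.GroupTheory.Nilpotent

/-!
# The class is bounded by the breadth

If every class of a finite `p`-group has at most `p ^ b` elements and the group has class `c`,
then `(c - 1) (p - 1) < b p` for `b ≥ 1`.
-/

set_option autoImplicit false
set_option linter.unusedSectionVars false

open scoped commutatorElement

namespace CfsgLib.Breadth

variable {G : Type*} [Group G]

/-- The terms of the lower central series. -/
abbrev lcs (G : Type*) [Group G] (i : ℕ) : Subgroup G := (⊤ : Subgroup G).lowerCentralSeries i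

/-- Elements acting trivially on the factor `i` into the factor `i + 1`. -/
def actKer (G : Type*) [Group G] (i : ℕ) : Subgroup G :=
  (Subgroup.centralizer (((lcs G i).map (QuotientGroup.mk' (lcs G (i + 2)))) : Set _)).comap
    (QuotientGroup.mk' (lcs G (i + 2)))

theorem mem_actKer {i : ℕ} {x : G} :
    x ∈ actKer G i ↔ ∀ g ∈ lcs G i, ⁅x, g⁆ ∈ lcs G (i + 2) := by
  rw [actKer, Subgroup.mem_comap, Subgroup.mem_centralizer_iff]
  constructor
  · intro h g hg
    rw [← QuotientGroup.eq_one_iff]
    exact commutatorElement_eq_one_iff_mul_comm.mpr (h _ ⟨g, hg, rfl⟩).symm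
  · rintro h _ ⟨g, hg, rfl⟩
    have := h g hg
    rw [← QuotientGroup.eq_one_iff] at this
    exact (commutatorElement_eq_one_iff_mul_comm.mp this).symm

theorem lcs_succ (G : Type*) [Group G] (i : ℕ) : lcs G (i + 1) = ⁅lcs G i, (⊤ : Subgroup G)⁆ := rfl

theorem actKer_ne_top {c i : ℕ} (hc : lcs G c = ⊥) (hi : i + 1 < c)
    (hmin : ∀ j, lcs G j = ⊥ → c ≤ j) : actKer G i ≠ ⊤ := by
  intro h
  have h1 : lcs G (i + 1) ≤ lcs G (i + 2) := by
    rw [lcs_succ, Subgroup.commutator_le]
    intro g hg x _
    rw [← commutatorElement_inv]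
    exact inv_mem (mem_actKer.mp (h ▸ Subgroup.mem_top x) g hg)
  have h2 : ∀ d, lcs G (i + 1) ≤ lcs G (i + 1 + d) := by
    intro d
    induction d with
    | zero => exact le_rfl
    | succ d ih =>
      calc lcs G (i + 1) ≤ lcs G (i + 2) := h1
        _ = ⁅lcs G (i + 1), (⊤ : Subgroup G)⁆ := rfl
        _ ≤ ⁅lcs G (i + 1 + d), (⊤ : Subgroup G)⁆ := Subgroup.commutator_mono ih le_rfl
        _ = _ := rfl
  have h3 : lcs G (i + 1) = ⊥ := by
    have := h2 (c - (i + 1))
    rw [show i + 1 + (c - (i + 1)) = c by omega, hc] at this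
    exact eq_bot_iff.mpr this
  have := hmin _ h3
  omega

variable [Finite G] {p : ℕ} [hp : Fact p.Prime]

open Classical in
theorem card_not_mem_le_br (hG : IsPGroup p G) (x : G) (n : ℕ) :
    ((Finset.range n).filter (fun i => x ∉ actKer G i)).card ≤
      lg p (Subgroup.centralizer ({x} : Set G) ⊔ lcs G n) := by
  induction n with
  | zero => simp
  | succ n ih =>
    set S := Subgroup.centralizer ({x} : Set G) ⊔ lcs G n
    set S' := Subgroup.centralizer ({x} : Set G) ⊔ lcs G (n + 1)
    have hle : S' ≤ S := sup_le_sup_left (by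
      exact Subgroup.lowerCentralSeries_antitone _ (Nat.le_succ n)) _
    rw [Finset.range_add_one, Finset.filter_insert]
    by_cases hx : x ∈ actKer G n
    · rw [if_neg (not_not.mpr hx)]
      exact ih.trans (lg_anti hG hle)
    · rw [if_pos hx, Finset.card_insert_of_notMem (by simp)]
      have hlt : S' < S := by
        refine lt_of_le_of_ne hle fun h => hx (mem_actKer.mpr fun g hg => ?_)
        have hsub : S' ≤ centMod (lcs G (n + 2)) x := by
          refine sup_le (centralizer_le_centMod _ x) fun g hg => ?_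
          rw [mem_centMod, ← commutatorElement_inv]
          exact inv_mem (Subgroup.commutator_mem_commutator hg (Subgroup.mem_top x))
        exact mem_centMod.mp (hsub (h ▸ Subgroup.mem_sup_right hg))
      have := lg_lt hG hlt
      omega

open Classical in
theorem class_bound (hG : IsPGroup p G) (b : ℕ)
    (hb : ∀ x : G, (Subgroup.centralizer ({x} : Set G)).index ≤ p ^ b) :
    ∃ c, lcs G c = ⊥ ∧ (b ≠ 0 → (c - 1) * (p - 1) < b * p ∧ c ≤ 2 * b) ∧ (b = 0 → c ≤ 1) := by
  let _ : Fintype G := Fintype.ofFinite G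
  have hnil : Group.IsNilpotent G := hG.isNilpotent
  have hex : ∃ c, lcs G c = ⊥ := Subgroup.nilpotent_iff_lowerCentralSeries.mp hnil
  set c := Nat.find hex with hc
  have hbot : lcs G c = ⊥ := Nat.find_spec hex
  refine ⟨c, hbot, ?_⟩
  have hx : ∀ x : G, ((Finset.range (c - 1)).filter (fun i => x ∉ actKer G i)).card ≤
      br p x := fun x =>
    (card_not_mem_le_br hG x _).trans (lg_anti hG le_sup_left)
  have hi : ∀ i ∈ Finset.range (c - 1), (p - 1) * Nat.card G ≤
      p * (Finset.univ.filter (fun x : G => x ∉ actKer G i)).card := by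
    intro i hi
    rw [Finset.mem_range] at hi
    have hne := actKer_ne_top hbot (show i + 1 < c by omega) fun j hj => Nat.find_min' hex hj
    have hlt := lg_lt hG (lt_top_iff_ne_top.mpr hne)
    rw [lg_top] at hlt
    have hcard := Subgroup.card_mul_index (actKer G i)
    rw [index_eq hG] at hcard
    have hp : p ≤ p ^ lg p (actKer G i) := Nat.le_self_pow (by omega) p
    have h1 : Nat.card (actKer G i) * p ≤ Nat.card G := hcard ▸ Nat.mul_le_mul_left _ hp
    have h2 := Finset.card_filter_add_card_filter_not (s := (Finset.univ : Finset G))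
      (fun x => x ∈ actKer G i)
    rw [card_filter_mem, Finset.card_univ, ← Nat.card_eq_fintype_card] at h2
    rw [Nat.sub_mul, one_mul]
    rw [Nat.sub_le_iff_le_add]
    nlinarith
  have hsum := Finset.sum_le_sum hi
  rw [Finset.sum_const, Finset.card_range, smul_eq_mul, ← Finset.mul_sum] at hsum
  have hswap : ∑ i ∈ Finset.range (c - 1), (Finset.univ.filter (fun x : G => x ∉ actKer G i)).card =
      ∑ x : G, ((Finset.range (c - 1)).filter (fun i => x ∉ actKer G i)).card := by
    simp only [Finset.card_filter]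
    exact Finset.sum_comm
  rw [hswap] at hsum
  have htot : ∑ x : G, ((Finset.range (c - 1)).filter (fun i => x ∉ actKer G i)).card + b ≤
      Nat.card G * b := by
    rw [← Finset.add_sum_erase _ _ (Finset.mem_univ (1 : G)), Nat.card_eq_fintype_card]
    have h1 : ((Finset.range (c - 1)).filter (fun i => (1 : G) ∉ actKer G i)).card = 0 := by
      simp [one_mem]
    have h2 := Finset.sum_le_card_nsmul (Finset.univ.erase (1 : G))
      (fun x => ((Finset.range (c - 1)).filter (fun i => x ∉ actKer G i)).card) b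
      fun x _ => (hx x).trans (br_le hG (hb x))
    rw [Finset.card_erase_of_mem (Finset.mem_univ _), Finset.card_univ, smul_eq_mul] at h2
    obtain ⟨d, hd⟩ : ∃ d, Fintype.card G = d + 1 :=
      ⟨Fintype.card G - 1, by have := Fintype.card_pos (α := G); omega⟩
    rw [hd, Nat.add_sub_cancel] at h2
    rw [h1, hd, add_mul, one_mul]
    omega
  have hpos : 0 < Nat.card G := Nat.card_pos
  have hp2 := hp.out.two_le
  refine ⟨fun hb0 => ?_, fun hb0 => ?_⟩
  · have h1 : (c - 1) * (p - 1) < b * p := by
      by_contra hlt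
      have h' := Nat.mul_le_mul_right (Nat.card G) (Nat.not_lt.mp hlt)
      have hbp : 0 < p * b := Nat.mul_pos hp.out.pos (Nat.pos_of_ne_zero hb0)
      nlinarith
    refine ⟨h1, ?_⟩
    obtain ⟨q, rfl⟩ : ∃ q, p = q + 2 := ⟨p - 2, by omega⟩
    rw [show q + 2 - 1 = q + 1 from rfl] at h1
    by_contra hlt
    have : 2 * b ≤ c - 1 := by omega
    have := Nat.mul_le_mul_right (q + 1) this
    nlinarith
  · subst hb0
    rw [mul_zero, add_zero] at htot
    by_contra hlt
    have h1 : 1 * 1 ≤ (c - 1) * (p - 1) := Nat.mul_le_mul (by omega) (by omega)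
    nlinarith

end CfsgLib.Breadth
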