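import Cfsg.Agent.Breadth.Weight
import Cfsg.Agent.Breadth.Centralizers
import Mathlib.Algebra.BigOperators.Ring.Finset
import Mathlib.GroupTheory.QuotientGroup.Basic

/-!
# The step of the counting proof of the breadth bound

For `a` in the second centre with `N = ⁅a, G⁆` of order `p ^ k`, passing to `G ⧸ N` lowers the
sum of the weights of the breadths by at least `3 k |G|`.
-/

set_option autoImplicit false
set_option linter.unusedSectionVars false

open scoped commutatorElement

namespace CfsgLib.Breadth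

variable {G : Type*} [Group G]

/-- Preimage of the centralizer of the image of `x` modulo a normal subgroup. -/
def centMod (N : Subgroup G) [N.Normal] (x : G) : Subgroup G :=
  (Subgroup.centralizer ({(x : G ⧸ N)} : Set (G ⧸ N))).comap (QuotientGroup.mk' N)

theorem mem_centMod {N : Subgroup G} [N.Normal] {x g : G} :
    g ∈ centMod N x ↔ ⁅x, g⁆ ∈ N := by
  rw [centMod, Subgroup.mem_comap, mem_centralizer_iff_bracket, ← QuotientGroup.eq_one_iff]
  exact Iff.rfl

theorem centralizer_le_centMod (N : Subgroup G) [N.Normal] (x : G) :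
    Subgroup.centralizer ({x} : Set G) ≤ centMod N x := fun g hg => by
  rw [mem_centMod, mem_centralizer_iff_bracket.mp hg]; exact N.one_mem

theorem br_mk {p : ℕ} (N : Subgroup G) [N.Normal] (x : G) :
    br p (x : G ⧸ N) = lg p (centMod N x) := by
  rw [br, lg, lg, centMod, Subgroup.index_comap_of_surjective _ (QuotientGroup.mk'_surjective N)]

section Counting

variable [Fintype G]

open Classical in
theorem card_filter_mem (H : Subgroup G) :
    (Finset.univ.filter (fun x => x ∈ H)).card = Nat.card H := by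
  rw [Nat.card_eq_fintype_card, Fintype.card_subtype]

open Classical in
theorem card_outside (H K : Subgroup G) :
    (Finset.univ.filter (fun x => x ∉ H ∧ x ∉ K)).card + Nat.card H + Nat.card K =
      Nat.card G + Nat.card (H ⊓ K : Subgroup G) := by
  have h1 := Finset.card_union_add_card_inter (Finset.univ.filter (fun x => x ∈ H))
    (Finset.univ.filter (fun x => x ∈ K))
  rw [← Finset.filter_or, ← Finset.filter_and, card_filter_mem, card_filter_mem] at h1
  have h2 := Finset.card_filter_add_card_filter_not (s := (Finset.univ : Finset G))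
    (fun x => x ∈ H ∨ x ∈ K)
  have h3 : (Finset.univ.filter (fun x => x ∈ H ∧ x ∈ K)).card = Nat.card (H ⊓ K : Subgroup G) := by
    rw [← card_filter_mem]
    exact congrArg Finset.card (Finset.filter_congr fun x _ => Subgroup.mem_inf.symm)
  have h4 : (Finset.univ.filter (fun x => ¬(x ∈ H ∨ x ∈ K))).card =
      (Finset.univ.filter (fun x => x ∉ H ∧ x ∉ K)).card :=
    congrArg Finset.card (Finset.filter_congr fun x _ => by rw [not_or])
  rw [Finset.card_univ, ← Nat.card_eq_fintype_card] at h2
  omega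

end Counting

variable [Finite G] {p : ℕ} [hp : Fact p.Prime]

/-- The data of the step. -/
structure Pivot (p : ℕ) (G : Type*) [Group G] [Finite G] where
  a : G
  k : ℕ
  hG : IsPGroup p G
  central : ∀ g : G, ⁅a, g⁆ ∈ Subgroup.center G
  lg_eq : br p a = k
  one_le : 1 ≤ k

namespace Pivot

variable (P : Pivot p G)

/-- The subgroup of commutators with the pivot. -/
def N : Subgroup G := (comHom P.a P.central).range

/-- The centralizer of the pivot. -/
def C : Subgroup G := Subgroup.centralizer ({P.a} : Set G)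

theorem N_le_center : P.N ≤ Subgroup.center G := by
  rintro _ ⟨g, rfl⟩
  exact P.central g

instance : P.N.Normal := ⟨fun n hn g => by
  rw [Subgroup.mem_center_iff.mp (P.N_le_center hn) g, mul_inv_cancel_right]
  exact hn⟩

theorem card_N : Nat.card P.N = p ^ P.k := by
  rw [N, card_range_comHom P.hG, P.lg_eq]

theorem card_G : Nat.card G = p ^ P.k * Nat.card P.C := by
  rw [← Subgroup.card_mul_index P.C, index_eq P.hG, C]
  have := P.lg_eq
  rw [br] at this
  rw [this, mul_comm]

theorem a_mem_C : P.a ∈ P.C := Subgroup.mem_centralizer_singleton_iff.mpr rfl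

theorem a_bracket_mem (g : G) : ⁅P.a, g⁆ ∈ P.N := ⟨g, rfl⟩

theorem bracket_a_mem (g : G) : ⁅g, P.a⁆ ∈ P.N := by
  rw [← commutatorElement_inv]
  exact P.N.inv_mem (P.a_bracket_mem g)

/-- The index data of an element. -/
noncomputable def f (x : G) : ℕ := lg p (P.C ⊓ Subgroup.centralizer ({x} : Set G))

theorem cent_mul_inf (x : G) :
    Subgroup.centralizer ({x * P.a} : Set G) ⊓ Subgroup.centralizer ({x} : Set G) =
      P.C ⊓ Subgroup.centralizer ({x} : Set G) := by
  ext g
  simp only [Subgroup.mem_inf, C, Subgroup.mem_centralizer_singleton_iff]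
  constructor
  · rintro ⟨h1, h2⟩
    refine ⟨?_, h2⟩
    rw [← mul_assoc, h2, mul_assoc, mul_assoc] at h1
    exact mul_left_cancel h1
  · rintro ⟨h1, h2⟩
    exact ⟨by rw [← mul_assoc, h2, mul_assoc, h1, ← mul_assoc], h2⟩

theorem C_inf_mul (x : G) : P.C ⊓ Subgroup.centralizer ({x * P.a} : Set G) =
    P.C ⊓ Subgroup.centralizer ({x} : Set G) := by
  ext g
  simp only [Subgroup.mem_inf, C, Subgroup.mem_centralizer_singleton_iff]
  constructor
  · rintro ⟨h1, h2⟩
    refine ⟨h1, ?_⟩
    rw [← mul_assoc, mul_assoc x, ← h1, ← mul_assoc] at h2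
    exact mul_right_cancel h2
  · rintro ⟨h1, h2⟩
    exact ⟨h1, by rw [← mul_assoc, h2, mul_assoc, h1, ← mul_assoc]⟩

theorem f_mul (x : G) : P.f (x * P.a) = P.f x := by rw [f, f, C_inf_mul]

theorem mem_C_mul {x : G} : x * P.a ∈ P.C ↔ x ∈ P.C := P.C.mul_mem_cancel_right P.a_mem_C

theorem le_f {x : G} (hx : x ∉ P.C) : P.k + 1 ≤ P.f x := by
  have hlt : P.C ⊓ Subgroup.centralizer ({x} : Set G) < P.C := by
    refine lt_of_le_of_ne inf_le_left fun h => hx ?_
    have ha := (inf_eq_left.mp h) P.a_mem_C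
    rw [Subgroup.mem_centralizer_singleton_iff] at ha
    rw [C, Subgroup.mem_centralizer_singleton_iff]
    exact ha.symm
  have := lg_lt P.hG hlt
  have h2 : lg p P.C = P.k := P.lg_eq
  rw [f]; omega

theorem f_le (x : G) : P.f x ≤ P.k + br p x := by
  have h := lg_inf_le P.hG (le_top : P.C ≤ ⊤)
    (le_top : Subgroup.centralizer ({x} : Set G) ≤ ⊤)
  have h2 : lg p P.C = P.k := P.lg_eq
  rw [lg_top, h2] at h
  rw [f, br]; omega

theorem centralizer_mul_le (x : G) :
    Subgroup.centralizer ({x * P.a} : Set G) ≤ centMod P.N x := fun g hg => by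
  rw [mem_centMod]
  rw [mem_centralizer_iff_bracket] at hg
  have h1 : ⁅x * P.a, g⁆ = x * ⁅P.a, g⁆ * x⁻¹ * ⁅x, g⁆ := by
    simp only [commutatorElement_def]; group
  have h2 := Subgroup.mem_center_iff.mp (P.central g) x
  rw [hg, h2, mul_inv_cancel_right, eq_comm, ← eq_inv_iff_mul_eq_one] at h1
  have := P.a_bracket_mem g
  rw [h1] at this
  exact (P.N.inv_mem_iff).mp this

theorem br_mk_le (x : G) : br p (x : G ⧸ P.N) ≤ br p x := by
  rw [br_mk]; exact lg_anti P.hG (centralizer_le_centMod P.N x)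

theorem br_mk_lt {x : G} (hx : x ∉ P.C) : br p (x : G ⧸ P.N) < br p x := by
  rw [br_mk]
  refine lg_lt P.hG (lt_of_le_of_ne (centralizer_le_centMod P.N x) fun h => hx ?_)
  have ha : P.a ∈ centMod P.N x := mem_centMod.mpr (P.bracket_a_mem x)
  rw [← h, Subgroup.mem_centralizer_singleton_iff] at ha
  rw [C, Subgroup.mem_centralizer_singleton_iff]
  exact ha.symm

theorem f_le_add (x : G) : P.f x + br p (x : G ⧸ P.N) ≤ br p (x * P.a) + br p x := by
  have h := lg_inf_le P.hG (P.centralizer_mul_le x) (centralizer_le_centMod P.N x)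
  rw [P.cent_mul_inf] at h
  rw [br_mk, f, br, br]; exact h

/-- The gain at a pair outside the centralizer of the pivot. -/
theorem gain_pair {x : G} (hx : x ∉ P.C) :
    wt (br p (x : G ⧸ P.N)) + wt (br p ((x * P.a : G) : G ⧸ P.N)) + 2 * inc P.k ≤
        wt (br p x) + wt (br p (x * P.a)) ∧
      (P.k + 2 ≤ P.f x →
        wt (br p (x : G ⧸ P.N)) + wt (br p ((x * P.a : G) : G ⧸ P.N)) + 2 * inc (P.k + 1) ≤
          wt (br p x) + wt (br p (x * P.a))) := by
  have hxa : x * P.a ∉ P.C := fun h => hx (P.mem_C_mul.mp h)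
  have h1 := P.br_mk_lt hx
  have h2 := P.br_mk_lt hxa
  have h3 := P.f_le_add x
  have h4 := P.f_le_add (x * P.a)
  have h5 := P.le_f hx
  have h6 := P.f_le x
  have h7 := P.f_le (x * P.a)
  rw [P.f_mul] at h4 h7
  have h8 : br p (x * P.a * P.a) + br p (x : G ⧸ P.N) = br p (x * P.a * P.a) + br p (x : G ⧸ P.N) :=
    rfl
  have h4' : P.f x + br p ((x * P.a : G) : G ⧸ P.N) ≤ br p x + br p (x * P.a) := by
    have := lg_inf_le P.hG (E := centMod P.N (x * P.a))
      (H := Subgroup.centralizer ({x} : Set G))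
      (K := Subgroup.centralizer ({x * P.a} : Set G)) (fun g hg => by
        rw [mem_centMod]
        have e1 : ⁅x * P.a, g⁆ = x * ⁅P.a, g⁆ * x⁻¹ * ⁅x, g⁆ := by
          simp only [commutatorElement_def]; group
        rw [e1, mem_centralizer_iff_bracket.mp hg, mul_one,
          Subgroup.mem_center_iff.mp (P.central g) x, mul_inv_cancel_right]
        exact P.a_bracket_mem g)
      (centralizer_le_centMod P.N (x * P.a))
    rw [inf_comm, P.cent_mul_inf] at this
    rw [br_mk, f, br, br]; exact this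
  obtain ⟨g1, g2⟩ := pair_gain (k := P.k) (i := P.f x - P.k) (b := br p x) (b' := br p (x * P.a))
    (e := br p x - br p (x : G ⧸ P.N)) (e' := br p (x * P.a) - br p ((x * P.a : G) : G ⧸ P.N))
    P.one_le (by omega) (by omega) (by omega) (by omega) (by omega) (by omega) (by omega)
    (by omega) (by omega)
  rw [Nat.sub_sub_self h1.le, Nat.sub_sub_self h2.le] at g1 g2
  exact ⟨g1, fun h => g2 (by omega)⟩

/-- An element outside `C` whose centralizer meets `C` in index `p` brackets `C` into a
subgroup of order `p`. -/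
theorem line {y : G} (hy : y ∉ P.C) (hf : P.f y ≤ P.k + 1) :
    Nat.card (Subgroup.zpowers ⁅y, P.a⁆) = p ∧
      ∀ c ∈ P.C, ⁅y, c⁆ ∈ Subgroup.zpowers ⁅y, P.a⁆ := by
  set M := P.C ⊓ Subgroup.centralizer ({y} : Set G) with hM
  set R := Subgroup.zpowers ⁅y, P.a⁆ with hR
  have hRZ : R ≤ Subgroup.center G :=
    Subgroup.zpowers_le.mpr (P.N_le_center (P.bracket_a_mem y))
  have hk : lg p P.C = P.k := P.lg_eq
  have hfe : lg p M = P.k + 1 := by
    have := P.le_f hy
    rw [f] at this hf
    rw [hM]; omega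
  have haM : P.a ∉ M := fun h => hy (by
    have := (Subgroup.mem_inf.mp h).2
    rw [Subgroup.mem_centralizer_singleton_iff] at this
    rw [C, Subgroup.mem_centralizer_singleton_iff]
    exact this.symm)
  have hsup : M ⊔ Subgroup.zpowers P.a = P.C := by
    have hle : M ⊔ Subgroup.zpowers P.a ≤ P.C :=
      sup_le inf_le_left (Subgroup.zpowers_le.mpr P.a_mem_C)
    refine hle.eq_of_not_lt fun hlt => ?_
    have h1 : M < M ⊔ Subgroup.zpowers P.a := lt_of_le_of_ne le_sup_left fun h =>
      haM (h ▸ (Subgroup.mem_sup_right (Subgroup.mem_zpowers _)))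
    have h2 := lg_lt P.hG h1
    have h3 := lg_lt P.hG hlt
    omega
  have hall : ∀ c ∈ P.C, ⁅y, c⁆ ∈ R := by
    intro c hc
    have hle : M ⊔ Subgroup.zpowers P.a ≤ bracketPre y R hRZ := by
      refine sup_le (fun g hg => ?_) (Subgroup.zpowers_le.mpr (Subgroup.mem_zpowers _))
      rw [mem_bracketPre, mem_centralizer_iff_bracket.mp (Subgroup.mem_inf.mp hg).2]
      exact R.one_mem
    rw [hsup] at hle
    exact hle hc
  refine ⟨?_, hall⟩
  let χ : P.C →* G :=
    { toFun := fun c => ⁅y, (c : G)⁆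
      map_one' := by simp [commutatorElement_def]
      map_mul' := fun c d => by
        have hc := Subgroup.mem_center_iff.mp (hRZ (hall d d.2)) c
        show ⁅y, (c : G) * (d : G)⁆ = _
        calc ⁅y, (c : G) * (d : G)⁆ = ⁅y, (c : G)⁆ * ((c : G) * ⁅y, (d : G)⁆) * (c : G)⁻¹ := by
                simp only [commutatorElement_def]; group
          _ = ⁅y, (c : G)⁆ * ⁅y, (d : G)⁆ := by rw [hc]; group }
  have hker : χ.ker = M.subgroupOf P.C := by
    ext c
    rw [MonoidHom.mem_ker, Subgroup.mem_subgroupOf, hM, Subgroup.mem_inf,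
      mem_centralizer_iff_bracket]
    exact ⟨fun h => ⟨c.2, h⟩, fun h => h.2⟩
  have hrange : χ.range = R := by
    refine le_antisymm ?_ (Subgroup.zpowers_le.mpr ⟨⟨P.a, P.a_mem_C⟩, rfl⟩)
    rintro _ ⟨c, rfl⟩
    exact hall c c.2
  have h1 : χ.ker.index = p := by
    rw [hker]
    have h2 : M.relIndex P.C * P.C.index = M.index := Subgroup.relIndex_mul_index inf_le_left
    rw [index_eq P.hG, index_eq P.hG, hk, hfe, pow_succ'] at h2
    exact Nat.eq_of_mul_eq_mul_right (pow_pos hp.out.pos _) h2
  rw [← hrange, ← Subgroup.index_ker, h1]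

theorem eq_of_card_prime {R R' : Subgroup G} (hR : Nat.card R = p) (hR' : Nat.card R' = p)
    {z : G} (hz : z ∈ R) (hz' : z ∈ R') (h1 : z ≠ 1) : R = R' := by
  have key : ∀ S : Subgroup G, Nat.card S = p → z ∈ S → Subgroup.zpowers z = S := fun S hS hzS => by
    refine Subgroup.eq_of_le_of_card_ge (Subgroup.zpowers_le.mpr hzS) ?_
    have hd := Subgroup.card_dvd_of_le (Subgroup.zpowers_le.mpr hzS)
    rw [hS] at hd ⊢
    rcases hp.out.eq_one_or_self_of_dvd _ hd with h | h
    · exact absurd (Subgroup.zpowers_eq_bot.mp (Subgroup.card_eq_one.mp h)) h1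
    · exact h.ge
  rw [← key R hR hz, key R' hR' hz']

section Sums

variable [Fintype G]

/-- Sum over the group of the weights of the breadths. -/
noncomputable def total : ℕ := ∑ x : G, wt (br p x)

/-- Sum over the group of the weights of the breadths of the images. -/
noncomputable def total' : ℕ := ∑ x : G, wt (br p (x : G ⧸ P.N))

open Classical in
/-- The elements of large index data. -/
noncomputable def Q : Finset G := Finset.univ.filter fun x => x ∉ P.C ∧ P.k + 2 ≤ P.f x

open Classical in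
theorem mem_Q_of {x : G} (hx : x ∉ P.C) (h : ¬ P.f x ≤ P.k + 1) : x ∈ P.Q := by
  rw [Q, Finset.mem_filter]
  exact ⟨Finset.mem_univ _, hx, by omega⟩

open Classical in
theorem total_le {c₀ : ℕ} (hC : ∀ x ∈ P.C, wt (br p (x : G ⧸ P.N)) +
      wt (br p ((x * P.a : G) : G ⧸ P.N)) + c₀ ≤ wt (br p x) + wt (br p (x * P.a))) :
    2 * P.total' + Nat.card P.C * c₀ + (p ^ P.k - 1) * Nat.card P.C * (2 * inc P.k) +
      P.Q.card * (2 * (inc (P.k + 1) - inc P.k)) ≤ 2 * total (G := G) (p := p) := by
  let w : G → ℕ := fun x => wt (br p x)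
  let w' : G → ℕ := fun x => wt (br p (x : G ⧸ P.N))
  have e1 : ∀ v : G → ℕ, 2 * ∑ x, v x = ∑ x, (v x + v (x * P.a)) := fun v => by
    rw [Finset.sum_add_distrib, two_mul]
    exact congrArg _ (Equiv.sum_comp (Equiv.mulRight P.a) v).symm
  have h1 : ∑ x, (w' x + w' (x * P.a) + ((if x ∈ P.C then c₀ else 2 * inc P.k) +
      if x ∈ P.Q then 2 * (inc (P.k + 1) - inc P.k) else 0)) ≤ ∑ x, (w x + w (x * P.a)) := by
    refine Finset.sum_le_sum fun x _ => ?_
    by_cases hx : x ∈ P.C
    · have hQ : x ∉ P.Q := fun h => by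
        rw [Q, Finset.mem_filter] at h
        exact h.2.1 hx
      rw [if_pos hx, if_neg hQ, add_zero]
      exact hC x hx
    · rw [if_neg hx]
      obtain ⟨g1, g2⟩ := P.gain_pair hx
      by_cases hQ : x ∈ P.Q
      · rw [if_pos hQ]
        rw [Q, Finset.mem_filter] at hQ
        have := g2 hQ.2.2
        have := inc_mono (Nat.le_succ P.k)
        simp only [w, w']
        simp only [Nat.succ_eq_add_one] at *
        omega
      · rw [if_neg hQ, add_zero]
        exact g1
  rw [Finset.sum_add_distrib, ← e1 w, ← e1 w', Finset.sum_add_distrib, Finset.sum_ite,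
    Finset.sum_const, Finset.sum_const, Finset.sum_ite, Finset.sum_const, Finset.sum_const,
    smul_eq_mul, smul_eq_mul, smul_eq_mul, smul_eq_mul, card_filter_mem, mul_zero, add_zero] at h1
  have h2 : (Finset.univ.filter (fun x => x ∉ P.C)).card = (p ^ P.k - 1) * Nat.card P.C := by
    have := Finset.card_filter_add_card_filter_not (s := (Finset.univ : Finset G))
      (fun x => x ∈ P.C)
    rw [card_filter_mem, Finset.card_univ, ← Nat.card_eq_fintype_card, P.card_G] at this
    rw [Nat.sub_mul, one_mul]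
    omega
  have h3 : Finset.univ.filter (fun x => x ∈ P.Q) = P.Q :=
    Finset.filter_univ_mem P.Q
  rw [h2, h3] at h1
  unfold total total'
  linarith

theorem card_index_two {H : Subgroup G} (hH : H.index = p)
    (hT : ∀ x, x ∉ P.C → P.f x ≤ P.k + 1 → x ∈ H) :
    (p ^ P.k - 1) * Nat.card P.C ≤ 2 * P.Q.card := by
  classical
  set n := Nat.card P.C
  have hcard : Nat.card H * p = p ^ P.k * n := by
    rw [← P.card_G, ← hH]; exact Subgroup.card_mul_index H
  have hinf : n ≤ Nat.card (H ⊓ P.C : Subgroup G) * p := by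
    have h1 := lg_inf_le P.hG (le_top : H ≤ ⊤) (le_top : P.C ≤ ⊤)
    have hk : lg p P.C = P.k := P.lg_eq
    have hH1 : lg p H = 1 := by rw [lg, hH]; exact hp.out.factorization_self
    rw [lg_top, hk, hH1, add_zero] at h1
    have h2 := Subgroup.card_mul_index (H ⊓ P.C)
    rw [index_eq P.hG, P.card_G] at h2
    refine Nat.le_of_mul_le_mul_left ?_ (pow_pos hp.out.pos P.k)
    calc p ^ P.k * n = Nat.card (H ⊓ P.C : Subgroup G) * p ^ lg p (H ⊓ P.C) := h2.symm
      _ ≤ Nat.card (H ⊓ P.C : Subgroup G) * p ^ (1 + P.k) :=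
          Nat.mul_le_mul_left _ (Nat.pow_le_pow_right hp.out.pos h1)
      _ = _ := by ring
  have hout := card_outside H P.C
  have hsub : (Finset.univ.filter (fun x => x ∉ H ∧ x ∉ P.C)).card ≤ P.Q.card := by
    refine Finset.card_le_card fun x hx => ?_
    rw [Finset.mem_filter] at hx
    exact P.mem_Q_of hx.2.2 fun h => hx.2.1 (hT x hx.2.2 h)
  have hp2 := hp.out.two_le
  rw [P.card_G] at hout
  obtain ⟨q, hq⟩ : ∃ q, p ^ P.k = q + 1 := ⟨p ^ P.k - 1, by have := pow_pos hp.out.pos P.k; omega⟩
  rw [hq] at hout hcard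
  rw [hq, Nat.add_sub_cancel]
  obtain ⟨r, rfl⟩ : ∃ r, p = r + 2 := ⟨p - 2, by omega⟩
  nlinarith

end Sums

end Pivot

end CfsgLib.Breadth
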