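import Mathlib.Tactic.Linarith
import Mathlib.Tactic.Ring
import Mathlib.Tactic.IntervalCases

/-!
# A weight on breadths

`wt b` is `3 * (b (b+1) / 2) + 3` for `b ≥ 2`, with `wt 1 = 5`, `wt 0 = 0`. The increments are
`5, 7, 9, 12, 15, ...`; dropping a breadth `b` by `e ≥ 1` lowers it by at least `3 (b + e - 1)`.
-/

set_option autoImplicit false

namespace CfsgLib.Breadth

/-- The increments of the weight. -/
def inc : ℕ → ℕ
  | 0 => 0
  | 1 => 5
  | 2 => 7
  | n + 3 => 3 * (n + 3)

/-- The weight. -/
def wt : ℕ → ℕ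
  | 0 => 0
  | n + 1 => wt n + inc (n + 1)

theorem three_mul_le_inc : ∀ n, 3 * n ≤ inc n
  | 0 => le_rfl
  | 1 => by decide
  | 2 => by decide
  | n + 3 => le_rfl

theorem inc_of_three_le {n : ℕ} (h : 3 ≤ n) : inc n = 3 * n := by
  obtain ⟨m, rfl⟩ : ∃ m, n = m + 3 := ⟨n - 3, by omega⟩
  rfl

theorem wt_mono : Monotone wt := monotone_nat_of_le_succ fun n => Nat.le_add_right _ _

theorem two_wt_le : ∀ b, 2 * wt b ≤ 3 * b * (b + 1) + 6
  | 0 => by decide
  | 1 => by decide
  | 2 => by decide
  | n + 3 => by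
    have h := two_wt_le (n + 2)
    show 2 * (wt (n + 2) + inc (n + 3)) ≤ _
    rw [inc_of_three_le (by omega)]
    nlinarith

/-- The gain of a drop. -/
theorem gain_linear {b : ℕ} : ∀ e, 1 ≤ e → e ≤ b → wt (b - e) + 3 * (b + e - 1) ≤ wt b := by
  intro e he
  induction e, he using Nat.le_induction with
  | base =>
    intro hb
    obtain ⟨m, rfl⟩ : ∃ m, b = m + 1 := ⟨b - 1, by omega⟩
    show wt (m + 1 - 1) + 3 * (m + 1 + 1 - 1) ≤ wt m + inc (m + 1)
    have := three_mul_le_inc (m + 1)
    rw [Nat.add_sub_cancel, Nat.add_sub_cancel]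
    omega
  | succ e he ih =>
    intro hb
    obtain ⟨m, hm⟩ : ∃ m, b - e = m + 1 := ⟨b - e - 1, by omega⟩
    have h1 := ih (by omega)
    rw [hm] at h1
    have h2 := three_mul_le_inc (m + 1)
    rw [show b - (e + 1) = m by omega]
    change wt m + inc (m + 1) + 3 * (b + e - 1) ≤ wt b at h1
    omega

theorem gain_inc {b e : ℕ} (he : 1 ≤ e) (hb : e ≤ b) : wt (b - e) + inc b ≤ wt b := by
  obtain ⟨m, rfl⟩ : ∃ m, b = m + 1 := ⟨b - 1, by omega⟩
  have := wt_mono (show m + 1 - e ≤ m by omega)
  show wt (m + 1 - e) + inc (m + 1) ≤ wt m + inc (m + 1)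
  omega

theorem inc_mono : Monotone inc := monotone_nat_of_le_succ fun n => by
  match n with
  | 0 => decide
  | 1 => decide
  | 2 => decide
  | n + 3 => show 3 * (n + 3) ≤ 3 * (n + 4); omega

/-- Two elements outside the centralizer whose index data is `i`. -/
theorem pair_gain {k i b b' e e' : ℕ} (hk : 1 ≤ k) (hi : 1 ≤ i) (he : 1 ≤ e) (he' : 1 ≤ e')
    (heb : e ≤ b) (heb' : e' ≤ b') (hib : i ≤ b) (hib' : i ≤ b')
    (h : k + i ≤ e + b') (h' : k + i ≤ e' + b) :
    wt (b - e) + wt (b' - e') + 2 * inc k ≤ wt b + wt b' ∧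
      (2 ≤ i → wt (b - e) + wt (b' - e') + 2 * inc (k + 1) ≤ wt b + wt b') := by
  have g1 := gain_linear e he heb
  have g2 := gain_linear e' he' heb'
  have h1 := gain_inc he heb
  have h2 := gain_inc he' heb'
  refine ⟨?_, fun hi2 => ?_⟩
  · rcases Nat.lt_or_ge k 3 with hk3 | hk3
    · interval_cases k
      · have := inc_mono (show 1 ≤ b by omega)
        have := inc_mono (show 1 ≤ b' by omega)
        omega
      · rw [show inc 2 = 7 from rfl]
        rcases Nat.lt_or_ge b 2 with hb | hb
        · have hb1 : b = 1 := by omega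
          subst hb1
          rw [show inc 1 = 5 from rfl] at h1
          omega
        · rcases Nat.lt_or_ge b' 2 with hb' | hb'
          · have hb1 : b' = 1 := by omega
            subst hb1
            rw [show inc 1 = 5 from rfl] at h2
            omega
          · have := inc_mono hb
            have := inc_mono hb'
            have : inc 2 = 7 := rfl
            omega
    · rw [inc_of_three_le hk3]
      omega
  · rcases Nat.lt_or_ge k 2 with hk2 | hk2
    · have hk1 : k = 1 := by omega
      subst hk1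
      have := inc_mono (show 2 ≤ b by omega)
      have := inc_mono (show 2 ≤ b' by omega)
      show _ + 2 * inc 2 ≤ _
      omega
    · rw [inc_of_three_le (by omega)]
      omega

theorem six_mul_le_wt : ∀ b, b ≠ 1 → 6 * b ≤ wt b
  | 0, _ => le_rfl
  | 1, h => absurd rfl h
  | 2, _ => by decide
  | 3, _ => by decide
  | n + 4, _ => by
    have h := six_mul_le_wt (n + 3) (by omega)
    show 6 * (n + 4) ≤ wt (n + 3) + inc (n + 4)
    rw [inc_of_three_le (by omega)]
    omega

theorem six_mul_add_le_wt : ∀ b, 3 ≤ b → 6 * b + 1 ≤ wt b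
  | 0, h | 1, h | 2, h => by omega
  | 3, _ => by decide
  | n + 4, _ => by
    have h := six_mul_add_le_wt (n + 3) (by omega)
    show 6 * (n + 4) + 1 ≤ wt (n + 3) + inc (n + 4)
    rw [inc_of_three_le (by omega)]
    omega

/-- The pairs inside the centralizer. -/
theorem pair_small {k b b' : ℕ} (h : k ≤ b + b') :
    (1 ≤ k → 5 ≤ wt b + wt b') ∧ (k = 2 → 10 ≤ wt b + wt b') ∧
      (3 ≤ k → (k = 3 → b ≠ 1 ∧ b' ≠ 1) → 6 * k ≤ wt b + wt b') := by
  refine ⟨fun hk => ?_, fun hk => ?_, fun hk hex => ?_⟩
  · have h1 : wt 1 = 5 := rfl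
    rcases Nat.eq_zero_or_pos b with hb | hb
    · have := wt_mono (show 1 ≤ b' by omega)
      omega
    · have := wt_mono (show 1 ≤ b from hb)
      omega
  · have h1 : wt 1 = 5 := rfl
    have h2 : wt 2 = 12 := rfl
    rcases Nat.eq_zero_or_pos b with hb | hb
    · have := wt_mono (show 2 ≤ b' by omega)
      omega
    rcases Nat.eq_zero_or_pos b' with hb' | hb'
    · have := wt_mono (show 2 ≤ b by omega)
      omega
    · have := wt_mono (show 1 ≤ b from hb)
      have := wt_mono (show 1 ≤ b' from hb')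
      omega
  · have h1 : wt 1 = 5 := rfl
    by_cases hb : b = 1
    · subst hb
      have hk4 : 4 ≤ k := by
        by_contra hk4
        exact (hex (by omega)).1 rfl
      have := six_mul_add_le_wt b' (by omega)
      omega
    · by_cases hb' : b' = 1
      · subst hb'
        have hk4 : 4 ≤ k := by
          by_contra hk4
          exact (hex (by omega)).2 rfl
        have := six_mul_add_le_wt b (by omega)
        omega
      · have := six_mul_le_wt b hb
        have := six_mul_le_wt b' hb'
        omega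

end CfsgLib.Breadth
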